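import Groth.Prelude.Def_StrictSS
import Groth.Agent.H17.Reduced
import Groth.Agent.H19Grp.RegularSmooth
import Mathlib

/-!
# Irreducible components of strictly semistable curves over fields
-/

set_option autoImplicit false
set_option linter.style.haveILetI false
set_option backward.isDefEq.respectTransparency false

universe u

open CategoryTheory AlgebraicGeometry TopologicalSpace

namespace Groth.Agent.H26StrictSS

/-- Near a point with a domain as local ring there is a single component. -/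
theorem exists_open_unique {P : Scheme.{u}} [IsLocallyNoetherian P] (x : P) [IsDomain (P.presheaf.stalk x)] :
    ∃ (g : P) (O : P.Opens), x ∈ O ∧ g ⤳ x ∧ (∀ η : P, η ⤳ x → g ⤳ η) ∧ ∀ y ∈ O, g ⤳ y := by
  classical
  let g : P := P.fromSpecStalk x ⟨⊥, Ideal.isPrime_bot⟩
  have hmax : ∀ η : P, η ⤳ x → g ⤳ η := fun η hη => by
    obtain ⟨p, rfl⟩ : η ∈ Set.range (P.fromSpecStalk x) := by rw [Scheme.range_fromSpecStalk]; exact hη
    have hp : (⟨⊥, Ideal.isPrime_bot⟩ : Spec (P.presheaf.stalk x)) ⤳ p :=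
      (PrimeSpectrum.le_iff_specializes _ p).1 bot_le
    exact hp.map (P.fromSpecStalk x).continuous
  have hgx : g ⤳ x := by
    have : g ∈ Set.range (P.fromSpecStalk x) := ⟨_, rfl⟩
    rw [Scheme.range_fromSpecStalk] at this
    exact this
  obtain ⟨_, ⟨O₀, hO₀, rfl⟩, hxO₀, -⟩ := P.isBasis_affineOpens.exists_subset_of_mem_open (Set.mem_univ x) isOpen_univ
  haveI : NoetherianSpace O₀ := by
    haveI : IsAffine O₀ := hO₀
    haveI : IsNoetherian (O₀ : Scheme.{u}) := {}
    infer_instance
  have hfin := NoetherianSpace.finite_irreducibleComponents (α := O₀)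
  let bad : Set O₀ := ⋃ Z ∈ {Z ∈ irreducibleComponents O₀ | (⟨x, hxO₀⟩ : O₀) ∉ Z}, Z
  have hbad : IsClosed bad := (hfin.subset fun Z h => h.1).isClosed_biUnion fun Z h =>
    isClosed_of_mem_irreducibleComponents Z h.1
  let O : P.Opens := ⟨Subtype.val '' badᶜ, O₀.isOpen.isOpenMap_subtype_val _ hbad.isOpen_compl⟩
  refine ⟨g, O, ⟨⟨x, hxO₀⟩, fun h => ?_, rfl⟩, hgx, hmax, ?_⟩
  · obtain ⟨Z, ⟨-, hZ⟩, h⟩ := Set.mem_iUnion₂.1 h
    exact hZ h
  · rintro _ ⟨y, hy, rfl⟩
    obtain ⟨Z, hZ, hyZ⟩ : ∃ Z ∈ irreducibleComponents O₀, y ∈ Z :=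
      ⟨irreducibleComponent y, irreducibleComponent_mem_irreducibleComponents y, mem_irreducibleComponent⟩
    have hxZ : (⟨x, hxO₀⟩ : O₀) ∈ Z := by_contra fun h => hy (Set.mem_iUnion₂.2 ⟨Z, ⟨hZ, h⟩, hyZ⟩)
    haveI : QuasiSober O₀ := inferInstanceAs (QuasiSober (O₀ : Scheme.{u}))
    obtain ⟨η, hη⟩ := QuasiSober.sober hZ.1 (isClosed_of_mem_irreducibleComponents Z hZ)
    have h1 : η ⤳ ⟨x, hxO₀⟩ := hη.specializes hxZ
    have h2 : η ⤳ y := hη.specializes hyZ
    exact (hmax _ (h1.map continuous_subtype_val)).trans (h2.map continuous_subtype_val)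

variable {k : Type u} [Field k] {C : Scheme.{u}} (φ : C ⟶ Spec (CommRingCat.of k))

/-- A reduced closed subscheme on a component is smooth where the component lies in a smooth closed piece. -/
theorem smooth_nhd {W : Scheme.{u}} (e : W ⟶ C) [IsClosedImmersion e] [AlgebraicGeometry.IsReduced W]
    (hW : Set.range e ∈ irreducibleComponents C) (w : W) (U : C.Opens) (hwU : e w ∈ U) {P : Scheme.{u}}
    (j : P ⟶ (U : Scheme.{u})) [IsClosedImmersion j] [Smooth (j ≫ U.ι ≫ φ)]
    (hsub : Set.range e ∩ (U : Set C) ⊆ Set.range (j ≫ U.ι)) :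
    ∃ V : W.Opens, w ∈ V ∧ Smooth (V.ι ≫ e ≫ φ) := by
  let c := j ≫ U.ι
  haveI : IsImmersion c := inferInstanceAs (IsImmersion (j ≫ U.ι))
  haveI : IsLocallyNoetherian P := LocallyOfFiniteType.isLocallyNoetherian (j ≫ U.ι ≫ φ)
  obtain ⟨x, hx⟩ := hsub ⟨⟨w, rfl⟩, hwU⟩
  haveI := Groth.Agent.H19Grp.isRegularLocalRing_stalk_of_smooth (j ≫ U.ι ≫ φ) x
  haveI := Groth.Agent.H4Depth.isDomain_of_isRegularLocalRing (P.presheaf.stalk x)
  obtain ⟨g, O, hxO, hgx, hgmax, hgO⟩ := exists_open_unique x
  obtain ⟨η, hη⟩ := QuasiSober.sober hW.1 e.isClosedEmbedding.isClosed_range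
  have hηU : η ∈ U := (hη.specializes ⟨w, rfl⟩).mem_open U.isOpen hwU
  obtain ⟨p, hp⟩ := hsub ⟨hη.mem, hηU⟩
  have hcinj : Function.Injective c := c.isEmbedding.injective
  have hpx : p ⤳ x := by
    rw [← c.isEmbedding.isInducing.specializes_iff]
    show c p ⤳ c x
    rw [show c p = η from hp, show c x = e w from hx]
    exact hη.specializes ⟨w, rfl⟩
  have hgp := hgmax p hpx
  have hηmax : ∀ y : C, y ⤳ η → y = η := fun y hy => by
    have h1 : Set.range e ⊆ closure {y} := by
      rw [← hη.def]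
      exact closure_minimal (Set.singleton_subset_iff.2 hy.mem_closure) isClosed_closure
    have h2 : closure {y} ⊆ Set.range e := hW.2 isIrreducible_singleton.closure h1
    exact ((isGenericPoint_def.2 (h2.antisymm h1) : IsGenericPoint y (Set.range e))).eq hη
  have hcg : c g = η := hηmax _ ((hgp.map c.continuous).trans (specializes_of_eq hp))
  obtain ⟨V₀, hV₀, hOV⟩ := c.isEmbedding.isInducing.isOpen_iff.1 O.isOpen
  let V : C.Opens := ⟨V₀ ∩ U, hV₀.inter U.isOpen⟩
  have hcU : ∀ y : P, c y ∈ U := fun y => by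
    show (j ≫ U.ι) y ∈ (U : Set C)
    rw [Scheme.Hom.comp_apply]
    exact (j y).2
  have hrange : Set.range ((e ⁻¹ᵁ V).ι ≫ e) = Set.range (O.ι ≫ c) := by
    simp only [Scheme.Hom.comp_base, TopCat.coe_comp, Set.range_comp, Scheme.Opens.range_ι]
    ext y
    constructor
    · rintro ⟨w', ⟨hw0, hwU'⟩, rfl⟩
      obtain ⟨z, hz⟩ := hsub ⟨⟨w', rfl⟩, hwU'⟩
      refine ⟨z, ?_, hz⟩
      show z ∈ (O : Set P)
      rw [← hOV]
      show c z ∈ V₀
      rw [show c z = e w' from hz]
      exact hw0
    · rintro ⟨z, hz, rfl⟩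
      obtain ⟨w', hw'⟩ : c z ∈ Set.range e :=
        (hcg ▸ (hgO z hz).map c.continuous : η ⤳ c z).mem_closed e.isClosedEmbedding.isClosed_range hη.mem
      refine ⟨w', ?_, hw'⟩
      show e w' ∈ V₀ ∩ (U : Set C)
      rw [hw']
      refine ⟨?_, hcU z⟩
      have : z ∈ c ⁻¹' V₀ := by rw [hOV]; exact hz
      exact this
  have hwV : w ∈ e ⁻¹ᵁ V := by
    refine ⟨?_, hwU⟩
    have : x ∈ c ⁻¹' V₀ := by rw [hOV]; exact hxO
    show e w ∈ V₀
    rw [← show c x = e w from hx]
    exact this
  haveI : AlgebraicGeometry.IsReduced P := by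
    haveI : ∀ y : P, _root_.IsReduced (P.presheaf.stalk y) := fun y => by
      haveI := Groth.Agent.H19Grp.isRegularLocalRing_stalk_of_smooth (j ≫ U.ι ≫ φ) y
      haveI := Groth.Agent.H4Depth.isDomain_of_isRegularLocalRing (P.presheaf.stalk y)
      infer_instance
    exact isReduced_of_isReduced_stalk P
  obtain ⟨ε, hε⟩ := Groth.Agent.H17.exists_iso_of_range_eq ((e ⁻¹ᵁ V).ι ≫ e) (O.ι ≫ c) hrange
  refine ⟨e ⁻¹ᵁ V, hwV, ?_⟩
  have h : (e ⁻¹ᵁ V).ι ≫ e ≫ φ = ε.hom ≫ O.ι ≫ (j ≫ U.ι ≫ φ) := by
    rw [← Category.assoc, ← hε]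
    simp only [c, Category.assoc]
  rw [h]
  infer_instance

section Models

variable (A : Type u) [CommRing A]

open MvPolynomial

/-- An axis in the node model. -/
noncomputable def axis (i : Fin 2) : StrictSS.NodeAlg A 0 →ₐ[A] Polynomial A :=
  Ideal.Quotient.liftₐ _ (aeval fun l : Fin 2 => if l = i then Polynomial.X else 0) fun a ha => by
    obtain ⟨b, rfl⟩ := Ideal.mem_span_singleton'.1 ha
    rw [map_mul]
    fin_cases i <;> simp

theorem axis_mk (i : Fin 2) (p : MvPolynomial (Fin 2) A) :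
    axis A i (Ideal.Quotient.mk _ p) = aeval (fun l : Fin 2 => if l = i then Polynomial.X else 0) p := rfl

theorem axis_surjective (i : Fin 2) : Function.Surjective (axis A i) := by
  rw [← AlgHom.range_eq_top, eq_top_iff, ← Polynomial.adjoin_X, Algebra.adjoin_le_iff, Set.singleton_subset_iff]
  exact ⟨Ideal.Quotient.mk _ (X i), by show axis A i _ = _; rw [axis_mk, aeval_X, if_pos rfl]⟩

theorem mem_range_axis (i l : Fin 2) (hne : l ≠ i) (p : Spec (CommRingCat.of (StrictSS.NodeAlg A 0)))
    (hp : (Ideal.Quotient.mk _ (X l) : StrictSS.NodeAlg A 0) ∈ p.asIdeal) :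
    p ∈ Set.range (Spec.map (CommRingCat.ofHom (axis A i).toRingHom)) := by
  show p ∈ Set.range (PrimeSpectrum.comap (axis A i).toRingHom)
  rw [range_comap_of_surjective _ _ (axis_surjective A i)]
  intro z hz
  -- the kernel is generated by the other coordinate
  obtain ⟨z, rfl⟩ := Ideal.Quotient.mk_surjective z
  let s : Polynomial A →ₐ[A] StrictSS.NodeAlg A 0 := Polynomial.aeval (Ideal.Quotient.mk _ (X i))
  have key : ∀ q : MvPolynomial (Fin 2) A,
      Ideal.Quotient.mk _ q - s (axis A i (Ideal.Quotient.mk _ q)) ∈ p.asIdeal := by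
    intro q
    induction q using MvPolynomial.induction_on with
    | C a =>
      have e : s (axis A i (Ideal.Quotient.mk _ (C a))) = Ideal.Quotient.mk _ (C a) := by
        rw [axis_mk, aeval_C, AlgHom.commutes]; rfl
      rw [e, sub_self]
      exact p.asIdeal.zero_mem
    | add a b ha hb =>
      have := p.asIdeal.add_mem ha hb
      simp only [map_add] at this ⊢
      convert this using 1
      abel
    | mul_X a m ha =>
      simp only [map_mul]
      rcases eq_or_ne m i with rfl | hmi
      · have e : s (axis A m (Ideal.Quotient.mk _ (X m))) = Ideal.Quotient.mk _ (X m) := by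
          simp [axis_mk, s]
        rw [e, ← sub_mul]
        exact p.asIdeal.mul_mem_right _ ha
      · have e : s (axis A i (Ideal.Quotient.mk _ (X m))) = 0 := by simp [axis_mk, s, hmi]
        rw [e, mul_zero, sub_zero]
        have hml : m = l := by omega
        exact p.asIdeal.mul_mem_left _ (hml ▸ hp)
  have := key z
  have hz' : axis A i (Ideal.Quotient.mk _ z) = 0 := hz
  simp only [hz'] at this
  simpa using this

theorem smooth_axis (i : Fin 2) :
    Smooth (Spec.map (CommRingCat.ofHom (axis A i).toRingHom) ≫ StrictSS.nodeToBase A 0) := by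
  rw [← Spec.map_comp, HasRingHomProperty.Spec_iff (P := @Smooth)]
  have h : ((CommRingCat.ofHom (algebraMap A (StrictSS.NodeAlg A 0))) ≫
      CommRingCat.ofHom (axis A i).toRingHom).hom = algebraMap A (Polynomial A) :=
    RingHom.ext fun a => (axis A i).commutes a
  rw [h]
  exact RingHom.smooth_algebraMap.mpr ⟨inferInstance, Algebra.FinitePresentation.polynomial A A⟩

/-- The node model at a unit is smooth. -/
theorem smooth_node_of_isUnit {a : A} (ha : IsUnit a) : Algebra.Smooth A (StrictSS.NodeAlg A a) := by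
  let L := Localization.Away (Polynomial.X : Polynomial A)
  let t : L := algebraMap (Polynomial A) L Polynomial.X
  let ti : L := IsLocalization.Away.invSelf (Polynomial.X : Polynomial A)
  have hti : t * ti = 1 := IsLocalization.Away.mul_invSelf _
  let f : StrictSS.NodeAlg A a →ₐ[A] L :=
    Ideal.Quotient.liftₐ _ (aeval ![t, algebraMap A L a * ti]) fun z hz => by
      obtain ⟨b, rfl⟩ := Ideal.mem_span_singleton'.1 hz
      rw [map_mul, map_sub, map_mul, aeval_X, aeval_X, aeval_C]
      simp only [Matrix.cons_val_zero, Matrix.cons_val_one]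
      rw [mul_left_comm, hti, mul_one, sub_self, mul_zero]
  let u : StrictSS.NodeAlg A a := Ideal.Quotient.mk _ (X 0)
  let v : StrictSS.NodeAlg A a := Ideal.Quotient.mk _ (X 1)
  have huv : u * v = algebraMap A _ a := Ideal.Quotient.eq.2 (Ideal.mem_span_singleton_self _)
  have hu : IsUnit u := isUnit_of_mul_isUnit_left (y := v) (huv ▸ ha.map _)
  let g₀ : Polynomial A →ₐ[A] StrictSS.NodeAlg A a := Polynomial.aeval u
  let g : L →ₐ[A] StrictSS.NodeAlg A a :=
    IsLocalization.liftAlgHom (M := Submonoid.powers (Polynomial.X : Polynomial A)) (f := g₀) fun y => by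
      obtain ⟨n, hn⟩ := y.2
      rw [← hn, map_pow]
      exact IsUnit.pow _ (by rw [show g₀ Polynomial.X = u from Polynomial.aeval_X u]; exact hu)
  have hgt : g t = u := (IsLocalization.lift_eq _ Polynomial.X).trans (Polynomial.aeval_X u)
  have hft : f u = t := (aeval_X ![t, algebraMap A L a * ti] 0).trans rfl
  have hfv : f v = algebraMap A L a * ti := (aeval_X ![t, algebraMap A L a * ti] 1).trans rfl
  have hgf : g.comp f = AlgHom.id A _ := by
    refine Ideal.Quotient.algHom_ext A (MvPolynomial.algHom_ext fun l => ?_)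
    fin_cases l
    · show g (f u) = u
      rw [hft, hgt]
    · show g (f v) = v
      have h1 : g (f v) * u = v * u := by
        rw [← hgt, ← map_mul, show f v * t = algebraMap A L a by
          rw [hfv, mul_assoc, mul_comm ti, hti, mul_one],
          AlgHom.commutes, hgt, mul_comm v u, huv]
      exact hu.mul_right_cancel h1
  have hfg : f.comp g = AlgHom.id A _ := by
    refine IsLocalization.algHom_ext (Submonoid.powers (Polynomial.X : Polynomial A)) (Polynomial.algHom_ext ?_)
    show f (g t) = t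
    rw [hgt, hft]
  haveI : Algebra.Smooth A (Polynomial A) := ⟨inferInstance, Algebra.FinitePresentation.polynomial A A⟩
  haveI : Algebra.Smooth (Polynomial A) L := Algebra.Smooth.of_isLocalization_Away Polynomial.X
  haveI : Algebra.Smooth A L := Algebra.Smooth.comp A (Polynomial A) L
  exact Algebra.Smooth.of_equiv (AlgEquiv.ofAlgHom g f hgf hfg)

end Models

end Groth.Agent.H26StrictSS
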